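import Groth.Agent.H11Proj.DegZeroProj
import Groth.Agent.H02CA.GorFlatLocal
import Mathlib.Algebra.Polynomial.Laurent
import Mathlib.RingTheory.GradedAlgebra.Homogeneous.Ideal

/-!
If `A` is graded and `h`, `k` are homogeneous of degrees `d`, `d + 1`, then `A_{hk}` is a Laurent
polynomial ring over `A_(hk)`, so `A_(hk)` is Gorenstein when `A` is. Application to `Proj`.
-/

set_option autoImplicit false
universe u

namespace Groth.Agent.H11GorProj

open HomogeneousLocalization DirectSum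

variable {A σ : Type u} [CommRing A] [SetLike σ A] [AddSubgroupClass σ A] (𝒜 : ℕ → σ) [GradedRing 𝒜]
  {d : ℕ} {h k : A} (hh : h ∈ 𝒜 d) (hk : k ∈ 𝒜 (d + 1))

local notation "α" => algebraMap A (Localization.Away (h * k))
local notation "ι'" => algebraMap (Away 𝒜 (h * k)) (Localization.Away (h * k))

theorem val_mul_pow {e : ℕ} (hf : h * k ∈ 𝒜 e) (m : ℕ) (x : A) (hx : x ∈ 𝒜 (m • e)) :
    ι' (Away.mk 𝒜 hf m x hx) * α (h * k) ^ m = α x := by
  rw [HomogeneousLocalization.algebraMap_apply, Away.val_mk, Localization.mk_eq_mk', ← map_pow]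
  exact IsLocalization.mk'_spec (Localization.Away (h * k)) x
    ⟨(h * k) ^ m, pow_mem (Submonoid.mem_powers _) m⟩

theorem eq_of_mul_pow {c c' : Away 𝒜 (h * k)} (N : ℕ)
    (e : ι' c * α (h * k) ^ N = ι' c' * α (h * k) ^ N) : c = c' := by
  apply HomogeneousLocalization.val_injective
  exact ((IsLocalization.Away.algebraMap_isUnit (h * k)).pow N).mul_left_inj.1 e

include hh hk in
theorem mul_mem : h * k ∈ 𝒜 (d + (d + 1)) := SetLike.mul_mem_graded hh hk

include hh in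
theorem mul_pow_mem {n : ℕ} {x : A} (hx : x ∈ 𝒜 n) : x * h ^ (2 * n) ∈ 𝒜 (n • (d + (d + 1))) := by
  have e : n • (d + (d + 1)) = n + (2 * n) • d := by simp only [smul_eq_mul]; ring
  rw [e]
  exact SetLike.mul_mem_graded hx (SetLike.pow_mem_graded _ hh)

/-- The coefficient of `x ∈ 𝒜 n`. -/
noncomputable def coef (n : ℕ) (x : A) (hx : x ∈ 𝒜 n) : Away 𝒜 (h * k) :=
  Away.mk 𝒜 (mul_mem 𝒜 hh hk) n (x * h ^ (2 * n)) (mul_pow_mem 𝒜 hh hx)

theorem coef_spec {n : ℕ} {x : A} (hx : x ∈ 𝒜 n) :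
    ι' (coef 𝒜 hh hk n x hx) * α (h * k) ^ n = α x * α h ^ (2 * n) := by
  rw [coef, val_mul_pow, map_mul, map_pow]

/-- The degree-`n` component of `expand`. -/
noncomputable def expandComp (n : ℕ) : 𝒜 n →+ Polynomial (Away 𝒜 (h * k)) where
  toFun a := Polynomial.monomial n (coef 𝒜 hh hk n a a.2)
  map_zero' := by
    rw [show coef 𝒜 hh hk n ((0 : 𝒜 n) : A) (0 : 𝒜 n).2 = 0 from eq_of_mul_pow 𝒜 n (by
      rw [coef_spec, map_zero, zero_mul, ZeroMemClass.coe_zero, map_zero, zero_mul]), map_zero]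
  map_add' a b := by
    rw [← map_add]
    congr 1
    refine eq_of_mul_pow 𝒜 n ?_
    rw [map_add, add_mul, coef_spec, coef_spec, coef_spec, AddMemClass.coe_add, map_add, add_mul]

/-- `a ↦ Σ aₙ t⁻ⁿ Tⁿ` for `t = k / h`. -/
noncomputable def expand : A →+* Polynomial (Away 𝒜 (h * k)) :=
  (DirectSum.toSemiring (expandComp 𝒜 hh hk)
    (by
      change Polynomial.monomial 0 (coef 𝒜 hh hk 0 (1 : A) _) = 1
      rw [show coef 𝒜 hh hk 0 (1 : A) SetLike.GradedOne.one_mem = 1 from eq_of_mul_pow 𝒜 0 (by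
        rw [coef_spec, map_one, map_one]; simp)]
      simp)
    (fun {i j} a b => by
      change Polynomial.monomial (i + j) (coef 𝒜 hh hk (i + j) ((a : A) * (b : A)) _) =
        Polynomial.monomial i (coef 𝒜 hh hk i a a.2) * Polynomial.monomial j (coef 𝒜 hh hk j b b.2)
      rw [Polynomial.monomial_mul_monomial]
      congr 1
      refine eq_of_mul_pow 𝒜 (i + j) ?_
      rw [coef_spec, map_mul, map_mul, pow_add (α (h * k)), mul_mul_mul_comm (ι' _) (ι' _),
        coef_spec, coef_spec]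
      ring)).comp (decomposeRingEquiv 𝒜).toRingHom

theorem expand_of_mem {n : ℕ} {a : A} (ha : a ∈ 𝒜 n) :
    expand 𝒜 hh hk a = Polynomial.monomial n (coef 𝒜 hh hk n a ha) := by
  have e : (decomposeRingEquiv 𝒜).toRingHom a = DirectSum.of (fun i => 𝒜 i) n ⟨a, ha⟩ :=
    decompose_of_mem 𝒜 ha
  rw [expand, RingHom.comp_apply, e, toSemiring_of]
  rfl

/-- `t = k / h`. -/
noncomputable def tElem : Localization.Away (h * k) :=
  α k * α k * IsLocalization.Away.invSelf (h * k)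

theorem tElem_mul : tElem (h := h) (k := k) * α (h * k) = α k * α k := by
  rw [tElem, mul_assoc, mul_comm (IsLocalization.Away.invSelf _),
    IsLocalization.Away.mul_invSelf, mul_one]

theorem isUnit_tElem : IsUnit (tElem (h := h) (k := k)) := by
  have hu : IsUnit (α k) := by
    have := IsLocalization.Away.algebraMap_isUnit (S := Localization.Away (h * k)) (h * k)
    rw [map_mul] at this
    exact isUnit_of_mul_isUnit_right this
  exact isUnit_of_mul_isUnit_left (y := α (h * k)) (by rw [tElem_mul]; exact hu.mul hu)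

theorem coef_mul_tElem {n : ℕ} {x : A} (hx : x ∈ 𝒜 n) :
    ι' (coef 𝒜 hh hk n x hx) * tElem (h := h) (k := k) ^ n = α x := by
  refine ((IsLocalization.Away.algebraMap_isUnit (h * k)).pow (2 * n)).mul_left_inj.1 ?_
  calc _ = (ι' (coef 𝒜 hh hk n x hx) * α (h * k) ^ n) * (tElem (h := h) (k := k) * α (h * k)) ^ n := by
        rw [two_mul, pow_add, mul_pow]; ring
    _ = α x * α (h * k) ^ (2 * n) := by
        rw [coef_spec, tElem_mul, map_mul, mul_pow, ← pow_two, ← pow_mul]; ring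

theorem isUnit_coef_self :
    IsUnit (coef 𝒜 hh hk (d + (d + 1)) (h * k) (mul_mem 𝒜 hh hk)) := by
  have hdeg : k ^ (2 * (d + (d + 1))) ∈ 𝒜 ((d + 1 + (d + 1)) • (d + (d + 1))) := by
    have e : (d + 1 + (d + 1)) • (d + (d + 1)) = (2 * (d + (d + 1))) • (d + 1) := by
      simp only [smul_eq_mul]; ring
    rw [e]; exact SetLike.pow_mem_graded _ hk
  refine IsUnit.of_mul_eq_one
    (Away.mk 𝒜 (mul_mem 𝒜 hh hk) (d + 1 + (d + 1)) _ hdeg) (eq_of_mul_pow 𝒜
      ((d + (d + 1)) + (d + 1 + (d + 1))) ?_)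
  rw [map_mul, map_one, one_mul, pow_add, mul_mul_mul_comm, coef_spec, val_mul_pow, map_pow,
    ← pow_add, mul_assoc, ← mul_pow, ← map_mul α h k, ← pow_succ']
  congr 1
  ring

theorem isUnit_expand : IsUnit (Polynomial.toLaurent (expand 𝒜 hh hk (h * k))) := by
  rw [expand_of_mem 𝒜 hh hk (mul_mem 𝒜 hh hk), Polynomial.toLaurent_C_mul_T]
  exact ((isUnit_coef_self 𝒜 hh hk).map LaurentPolynomial.C).mul (LaurentPolynomial.isUnit_T _)

/-- `A_(f)[T, T⁻¹] → A_f`, `T ↦ t`. -/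
noncomputable def laurentHom : LaurentPolynomial (Away 𝒜 (h * k)) →+* Localization.Away (h * k) :=
  LaurentPolynomial.eval₂ (ι') (isUnit_tElem (h := h) (k := k)).unit

/-- The inverse of `laurentHom`. -/
noncomputable def laurentInv : Localization.Away (h * k) →+* LaurentPolynomial (Away 𝒜 (h * k)) :=
  IsLocalization.Away.lift (h * k) (g := Polynomial.toLaurent.comp (expand 𝒜 hh hk))
    (isUnit_expand 𝒜 hh hk)

theorem laurentInv_algebraMap (a : A) :
    laurentInv 𝒜 hh hk (α a) = Polynomial.toLaurent (expand 𝒜 hh hk a) :=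
  IsLocalization.Away.lift_eq _ _ a

theorem laurentInv_val (c : Away 𝒜 (h * k)) :
    laurentInv 𝒜 hh hk (ι' c) = LaurentPolynomial.C c := by
  obtain ⟨m, x, hx, rfl⟩ := Away.mk_surjective 𝒜 (mul_mem 𝒜 hh hk) c
  have hfm : (h * k) ^ m ∈ 𝒜 (m • (d + (d + 1))) := SetLike.pow_mem_graded m (mul_mem 𝒜 hh hk)
  have e := congrArg (laurentInv 𝒜 hh hk) (val_mul_pow 𝒜 (mul_mem 𝒜 hh hk) m x hx)
  rw [map_mul, ← map_pow, laurentInv_algebraMap, laurentInv_algebraMap,
    expand_of_mem 𝒜 hh hk hx, expand_of_mem 𝒜 hh hk hfm, Polynomial.toLaurent_C_mul_T,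
    Polynomial.toLaurent_C_mul_T] at e
  have hc : Away.mk 𝒜 (mul_mem 𝒜 hh hk) m x hx * coef 𝒜 hh hk _ _ hfm = coef 𝒜 hh hk _ _ hx := by
    refine eq_of_mul_pow 𝒜 (m • (d + (d + 1))) ?_
    rw [map_mul, mul_assoc, coef_spec, coef_spec, map_pow, ← mul_assoc, val_mul_pow]
  rw [← hc, map_mul, mul_assoc] at e
  have hu : IsUnit (LaurentPolynomial.C (coef 𝒜 hh hk _ _ hfm) *
      LaurentPolynomial.T ((m • (d + (d + 1)) : ℕ) : ℤ)) := by
    have := (isUnit_expand 𝒜 hh hk).pow m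
    rwa [← map_pow, ← map_pow, expand_of_mem 𝒜 hh hk hfm, Polynomial.toLaurent_C_mul_T] at this
  exact hu.mul_left_inj.1 e

theorem laurentHom_C (c : Away 𝒜 (h * k)) : laurentHom 𝒜 (LaurentPolynomial.C c) = ι' c :=
  LaurentPolynomial.eval₂_C _ _ _

include hh hk in
theorem laurentHom_bijective : Function.Bijective (laurentHom 𝒜 (h := h) (k := k)) := by
  have h1 : (laurentHom 𝒜).comp (laurentInv 𝒜 hh hk) = RingHom.id _ := by
    refine IsLocalization.ringHom_ext (Submonoid.powers (h * k)) (RingHom.ext fun a => ?_)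
    simp only [RingHom.comp_apply, RingHom.id_apply, laurentInv_algebraMap]
    refine H11Proj.eq_on_homogeneous 𝒜
      (g₁ := ((laurentHom 𝒜).comp (Polynomial.toLaurent.comp (expand 𝒜 hh hk))).toAddMonoidHom)
      (g₂ := (α).toAddMonoidHom) (fun n b hb => ?_) a
    change laurentHom 𝒜 (Polynomial.toLaurent (expand 𝒜 hh hk b)) = α b
    rw [expand_of_mem 𝒜 hh hk hb, laurentHom, LaurentPolynomial.eval₂_toLaurent,
      Polynomial.eval₂_monomial, IsUnit.unit_spec, coef_mul_tElem]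
  have hT : laurentInv 𝒜 hh hk (laurentHom 𝒜 (LaurentPolynomial.T 1)) = LaurentPolynomial.T 1 := by
    rw [laurentHom, LaurentPolynomial.eval₂_T, zpow_one, IsUnit.unit_spec]
    have hkk : k * k ∈ 𝒜 (d + (d + 1) + 1) := by
      have := SetLike.mul_mem_graded hk hk
      rwa [show d + 1 + (d + 1) = d + (d + 1) + 1 by ring] at this
    have hmm := mul_mem 𝒜 hh hk
    have hc : coef 𝒜 hh hk _ _ hkk = coef 𝒜 hh hk _ _ hmm := by
      refine eq_of_mul_pow 𝒜 (d + (d + 1) + 1) ?_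
      rw [coef_spec, pow_succ, ← mul_assoc, coef_spec, map_mul, map_mul, mul_add 2, pow_add]
      ring
    have e := congrArg (laurentInv 𝒜 hh hk) (tElem_mul (h := h) (k := k))
    rw [map_mul, ← map_mul α k k, laurentInv_algebraMap, laurentInv_algebraMap,
      expand_of_mem 𝒜 hh hk hkk, expand_of_mem 𝒜 hh hk hmm, Polynomial.toLaurent_C_mul_T,
      Polynomial.toLaurent_C_mul_T, hc, Nat.cast_succ, LaurentPolynomial.T_add,
      ← mul_assoc (LaurentPolynomial.C _), mul_comm _ (LaurentPolynomial.T 1)] at e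
    exact (((isUnit_coef_self 𝒜 hh hk).map LaurentPolynomial.C).mul
      (LaurentPolynomial.isUnit_T _)).mul_left_inj.1 e
  refine ⟨Function.LeftInverse.injective (g := laurentInv 𝒜 hh hk) fun p => ?_,
    fun y => ⟨laurentInv 𝒜 hh hk y, RingHom.congr_fun h1 y⟩⟩
  have h3 : ((laurentInv 𝒜 hh hk).comp (laurentHom 𝒜)) = RingHom.id _ := by
    refine IsLocalization.ringHom_ext
      (Submonoid.powers (Polynomial.X : Polynomial (Away 𝒜 (h * k)))) ?_
    refine Polynomial.ringHom_ext (fun c => ?_) ?_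
    · simp only [RingHom.comp_apply, LaurentPolynomial.algebraMap_eq_toLaurent, RingHom.id_apply,
        Polynomial.toLaurent_C, laurentHom_C]
      exact laurentInv_val 𝒜 hh hk c
    · simp [LaurentPolynomial.algebraMap_eq_toLaurent, hT]
  exact RingHom.congr_fun h3 p

theorem eval_one_laurentInv_val (c : Away 𝒜 (h * k)) :
    LaurentPolynomial.eval₂ (RingHom.id (Away 𝒜 (h * k))) 1 (laurentInv 𝒜 hh hk (ι' c)) = c := by
  rw [laurentInv_val, LaurentPolynomial.eval₂_C, RingHom.id_apply]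

include hh hk in
theorem isGorensteinRing_away (hA : LocCoh.IsGorensteinRing A) :
    LocCoh.IsGorensteinRing (Away 𝒜 (h * k)) := by
  have hL : LocCoh.IsGorensteinRing (Localization.Away (h * k)) :=
    H02CA.GorFlat.isGorensteinRing_of_isLocalization hA (Submonoid.powers (h * k)) _
  let φ : LaurentPolynomial (Away 𝒜 (h * k)) ≃ₐ[Away 𝒜 (h * k)] (Localization.Away (h * k)) :=
    AlgEquiv.ofRingEquiv (f := RingEquiv.ofBijective _ (laurentHom_bijective 𝒜 hh hk))
      (laurentHom_C 𝒜)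
  haveI : Module.Flat (Away 𝒜 (h * k)) (Localization.Away (h * k)) := Module.Flat.of_linearEquiv φ.symm.toLinearEquiv
  let r : (Localization.Away (h * k)) →+* Away 𝒜 (h * k) :=
    (LaurentPolynomial.eval₂ (RingHom.id _) 1).comp (laurentInv 𝒜 hh hk)
  have hr : ∀ c, r (ι' c) = c := fun c => eval_one_laurentInv_val 𝒜 hh hk c
  haveI : IsNoetherianRing (Localization.Away (h * k)) := hL.1
  haveI : IsNoetherianRing (Away 𝒜 (h * k)) :=
    isNoetherianRing_of_surjective (Localization.Away (h * k)) _ r fun c => ⟨_, hr c⟩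
  refine { isGorensteinLocalRing_localization := fun q _ => ?_ }
  let P := q.comap r
  have hP : P.comap (ι') = q := by
    ext c; simp only [P, Ideal.mem_comap, hr]
  let Q := PrimeSpectrum.preimageEquivFiber (Away 𝒜 (h * k)) (Localization.Away (h * k)) ⟨q, inferInstance⟩
    ⟨⟨P, inferInstance⟩, PrimeSpectrum.ext hP⟩
  have hQ : Q.asIdeal.comap Algebra.TensorProduct.includeRight = P :=
    congr($((PrimeSpectrum.preimageEquivFiber (Away 𝒜 (h * k)) (Localization.Away (h * k)) ⟨q, inferInstance⟩).left_inv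
      ⟨⟨P, inferInstance⟩, PrimeSpectrum.ext hP⟩).1.asIdeal)
  exact ((H02CA.GorFlat.gor_iff_fibre q Q.asIdeal).1
    ((H02CA.GorFlat.gor_congr hQ).mpr (hL.isGorensteinLocalRing_localization P))).1

end Groth.Agent.H11GorProj

namespace Groth.Agent.H11GorProj

open CategoryTheory AlgebraicGeometry Pointwise

variable {A : Type u} [CommRing A] (𝒜 : ℕ → AddSubgroup A) [GradedRing 𝒜]

theorem exists_mem_notMem (d₀ : ℕ)
    (hd : ∀ d : ℕ, d₀ ≤ d → ∀ n : ℕ, 1 ≤ n →
      𝒜 ((n + 1) * d) = AddSubgroup.closure ((𝒜 d : Set A) * (𝒜 (n * d) : Set A)))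
    (x : Proj 𝒜) (d : ℕ) (hd0 : 0 < d) (hdd : d₀ ≤ d) : ∃ a ∈ 𝒜 d, a ∉ x.asHomogeneousIdeal := by
  by_contra hc
  push Not at hc
  apply x.not_irrelevant_le
  refine (HomogeneousIdeal.irrelevant_le _).mpr fun e he a ha => ?_
  have hdeg : a ^ (2 * d) ∈ 𝒜 ((2 * e - 1 + 1) * d) := by
    have := SetLike.pow_mem_graded (A := 𝒜) (2 * d) (show a ∈ 𝒜 e from ha)
    rw [Nat.sub_add_cancel (by omega)]
    rwa [smul_eq_mul, show 2 * d * e = 2 * e * d by ring] at this
  rw [hd d hdd (2 * e - 1) (by omega)] at hdeg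
  refine x.isPrime.mem_of_pow_mem (2 * d) ?_
  have hle : AddSubgroup.closure ((𝒜 d : Set A) * (𝒜 ((2 * e - 1) * d) : Set A)) ≤
      x.asHomogeneousIdeal.toIdeal.toAddSubgroup := by
    rw [AddSubgroup.closure_le]
    rintro _ ⟨p, hp, q, -, rfl⟩
    exact x.asHomogeneousIdeal.toIdeal.mul_mem_right q (hc p hp)
  exact hle hdeg

theorem isGorensteinLocalRing_stalk (hA : LocCoh.IsGorensteinRing A) (d₀ : ℕ)
    (hd : ∀ d : ℕ, d₀ ≤ d → ∀ n : ℕ, 1 ≤ n →
      𝒜 ((n + 1) * d) = AddSubgroup.closure ((𝒜 d : Set A) * (𝒜 (n * d) : Set A)))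
    (x : Proj 𝒜) : LocCoh.IsGorensteinLocalRing ((Proj 𝒜).presheaf.stalk x) := by
  obtain ⟨a, ha, hax⟩ := exists_mem_notMem 𝒜 d₀ hd x (d₀ + 1) (by omega) (by omega)
  obtain ⟨b, hb, hbx⟩ := exists_mem_notMem 𝒜 d₀ hd x (d₀ + 1 + 1) (by omega) (by omega)
  have hf : a * b ∈ 𝒜 (d₀ + 1 + (d₀ + 1 + 1)) := SetLike.mul_mem_graded ha hb
  have hx : x ∈ (Proj.awayι 𝒜 (a * b) hf (by omega)).opensRange := by
    rw [Proj.opensRange_awayι, Proj.mem_basicOpen]
    exact fun h => (x.isPrime.mem_or_mem h).elim hax hbx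
  obtain ⟨q, rfl⟩ := hx
  haveI := isGorensteinRing_away 𝒜 ha hb hA
  refine H02CA.GorFlat.gor_of_ringEquiv
    (asIso ((Proj.awayι 𝒜 (a * b) hf (by omega)).stalkMap q)).commRingCatIsoToRingEquiv.symm ?_
  refine H02CA.GorFlat.gor_of_ringEquiv ?_
    (LocCoh.IsGorensteinRing.isGorensteinLocalRing_localization q.asIdeal)
  exact (StructureSheaf.stalkIso _ q).toRingEquiv

end Groth.Agent.H11GorProj
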